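import Mathlib

/-!
The categorical `Tor₁(N, M)` of modules vanishes iff tensoring with `M` keeps the kernel of a flat
presentation of `N` injective.
-/

universe u

namespace Groth.Agent.TorBridge

open CategoryTheory TensorProduct MonoidalCategory

variable {R : Type u} [CommRing R]

/-- Balance: for presentations `q : F → N` and `p : P → M` with `P` flat, injectivity of
`N ⊗ ker p → N ⊗ P` gives injectivity of `ker q ⊗ M → F ⊗ M`. -/
theorem rTensor_injective_of_lTensor_injective {M N P F : Type u} [AddCommGroup M] [Module R M]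
    [AddCommGroup N] [Module R N] [AddCommGroup P] [Module R P] [AddCommGroup F] [Module R F]
    [Module.Flat R P] (p : P →ₗ[R] M) (hp : Function.Surjective p) (q : F →ₗ[R] N)
    (hq : Function.Surjective q) (h : Function.Injective ((LinearMap.ker p).subtype.lTensor N)) :
    Function.Injective ((LinearMap.ker q).subtype.rTensor M) := by
  rw [injective_iff_map_eq_zero]
  intro x hx
  obtain ⟨x', rfl⟩ := LinearMap.lTensor_surjective _ hp x
  have h1 : p.lTensor F ((LinearMap.ker q).subtype.rTensor P x') = 0 := by
    rw [← LinearMap.comp_apply, LinearMap.lTensor_comp_rTensor, ← LinearMap.rTensor_comp_lTensor,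
      LinearMap.comp_apply, hx]
  obtain ⟨z, hz⟩ := (lTensor_exact F (LinearMap.exact_subtype_ker_map p) hp _).1 h1
  have h2 : q.rTensor (LinearMap.ker p) z = 0 := by
    apply h
    rw [map_zero, ← LinearMap.comp_apply, LinearMap.lTensor_comp_rTensor,
      ← LinearMap.rTensor_comp_lTensor, LinearMap.comp_apply, hz, ← LinearMap.comp_apply,
      ← LinearMap.rTensor_comp, LinearMap.comp_ker_subtype, LinearMap.rTensor_zero,
      LinearMap.zero_apply]
  obtain ⟨w, rfl⟩ := (rTensor_exact (LinearMap.ker p) (LinearMap.exact_subtype_ker_map q) hq _).1 h2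
  have h3 : x' = (LinearMap.ker p).subtype.lTensor _ w := by
    apply Module.Flat.rTensor_preserves_injective_linearMap (M := P) _ (LinearMap.ker q).injective_subtype
    rw [← hz, ← LinearMap.comp_apply, LinearMap.lTensor_comp_rTensor, ← LinearMap.rTensor_comp_lTensor,
      LinearMap.comp_apply]
  rw [h3, ← LinearMap.comp_apply, ← LinearMap.lTensor_comp, LinearMap.comp_ker_subtype,
    LinearMap.lTensor_zero, LinearMap.zero_apply]

/-- The balanced form of the injectivity criterion. -/
theorem rTensor_injective_iff_lTensor_injective {M N P F : Type u} [AddCommGroup M] [Module R M]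
    [AddCommGroup N] [Module R N] [AddCommGroup P] [Module R P] [AddCommGroup F] [Module R F]
    [Module.Flat R P] [Module.Flat R F] (p : P →ₗ[R] M) (hp : Function.Surjective p) (q : F →ₗ[R] N)
    (hq : Function.Surjective q) :
    Function.Injective ((LinearMap.ker q).subtype.rTensor M) ↔
      Function.Injective ((LinearMap.ker p).subtype.lTensor N) := by
  refine ⟨fun h => ?_, rTensor_injective_of_lTensor_injective p hp q hq⟩
  exact (LinearMap.lTensor_inj_iff_rTensor_inj N _).2
    (rTensor_injective_of_lTensor_injective q hq p hp ((LinearMap.lTensor_inj_iff_rTensor_inj M _).2 h))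

/-- Injectivity of `N ⊗ ker p → N ⊗ P₀` is exactness at `N ⊗ P₁`. -/
theorem lTensor_ker_injective_iff {N P₂ P₁ P₀ M : Type u} [AddCommGroup N] [Module R N]
    [AddCommGroup P₂] [Module R P₂] [AddCommGroup P₁] [Module R P₁] [AddCommGroup P₀] [Module R P₀]
    [AddCommGroup M] [Module R M] (a : P₂ →ₗ[R] P₁) (b : P₁ →ₗ[R] P₀) (p : P₀ →ₗ[R] M)
    (hab : Function.Exact a b) (hbp : Function.Exact b p) :
    Function.Injective ((LinearMap.ker p).subtype.lTensor N) ↔
      Function.Exact (a.lTensor N) (b.lTensor N) := by
  let b' : P₁ →ₗ[R] LinearMap.ker p :=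
    b.codRestrict _ fun x => LinearMap.mem_ker.2 (hbp.apply_apply_eq_zero x)
  have hb' : Function.Surjective b' := by
    rintro ⟨y, hy⟩
    obtain ⟨x, rfl⟩ := (hbp y).1 hy
    exact ⟨x, rfl⟩
  have hab' : Function.Exact a b' := fun x => by
    rw [← hab x]
    exact ⟨fun h => congrArg Subtype.val h, fun h => Subtype.ext h⟩
  have hfac : b.lTensor N = (LinearMap.ker p).subtype.lTensor N ∘ₗ b'.lTensor N := by
    rw [← LinearMap.lTensor_comp]; rfl
  have hex := lTensor_exact N hab' hb'
  constructor
  · intro hinj x
    rw [hfac, LinearMap.comp_apply, map_eq_zero_iff _ hinj]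
    exact hex x
  · intro h
    rw [injective_iff_map_eq_zero]
    intro y hy
    obtain ⟨x, rfl⟩ := LinearMap.lTensor_surjective N hb' y
    exact (hex x).2 ((h x).1 (by rw [hfac]; exact hy))

/-- `Tor₁(N, M) = 0` iff `ker q ⊗ M → F ⊗ M` is injective, for a flat presentation `q : F → N`. -/
theorem isZero_tor_one_iff (M N : Type u) [AddCommGroup M] [Module R M] [AddCommGroup N] [Module R N]
    {F : Type u} [AddCommGroup F] [Module R F] [Module.Flat R F] (q : F →ₗ[R] N)
    (hq : Function.Surjective q) :
    Limits.IsZero (((CategoryTheory.Tor (ModuleCat.{u} R) 1).obj (ModuleCat.of R N)).obj (ModuleCat.of R M)) ↔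
      Function.Injective ((LinearMap.ker q).subtype.rTensor M) := by
  let Q : ProjectiveResolution (ModuleCat.of R M) := ProjectiveResolution.of _
  let G : ModuleCat.{u} R ⥤ ModuleCat.{u} R := (tensoringLeft (ModuleCat.{u} R)).obj (ModuleCat.of R N)
  let p : Q.complex.X 0 →ₗ[R] M := (Q.π.f 0).hom
  have hp : Function.Surjective p := (ModuleCat.epi_iff_surjective (Q.π.f 0)).1 inferInstance
  haveI : Module.Projective R (Q.complex.X 0) := (IsProjective.iff_projective _).2 (Q.projective 0)
  rw [rTensor_injective_iff_lTensor_injective p hp q hq,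
    lTensor_ker_injective_iff (Q.complex.d 2 1).hom (Q.complex.d 1 0).hom p
      ((ShortComplex.ShortExact.moduleCat_exact_iff_function_exact _).1 (Q.exact_succ 0))
      ((ShortComplex.ShortExact.moduleCat_exact_iff_function_exact _).1 Q.exact₀)]
  show Limits.IsZero ((G.leftDerived 1).obj (ModuleCat.of R M)) ↔ _
  rw [Iso.isZero_iff (Q.isoLeftDerivedObj G 1)]
  show Limits.IsZero (((G.mapHomologicalComplex _).obj Q.complex).homology 1) ↔ _
  rw [← HomologicalComplex.exactAt_iff_isZero_homology,
    HomologicalComplex.exactAt_iff' _ 2 1 0 (by simp) (by simp),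
    ShortComplex.ShortExact.moduleCat_exact_iff_function_exact]
  rfl

end Groth.Agent.TorBridge
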