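import Groth.Agent.TorBridge.Basic
import Mathlib

/-!
# Short exact sequences in the first variable of `Tor`
-/

universe u

open CategoryTheory Limits MonoidalCategory

namespace Groth.Agent.TorBridge

variable {R : Type u} [CommRing R]

/-- Tensoring with a fixed module (left slot). -/
abbrev tenF (X : ModuleCat.{u} R) : ModuleCat.{u} R ⥤ ModuleCat.{u} R :=
  (tensoringLeft (ModuleCat.{u} R)).obj X

/-- `Tor_i(X, N) = 0` for flat `X` and `i ≥ 1`. -/
theorem isZero_tor_succ_of_flat (X : ModuleCat.{u} R) [Module.Flat R X] (N : ModuleCat.{u} R) (i : ℕ) :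
    IsZero (((Tor (ModuleCat.{u} R) (i + 1)).obj X).obj N) := by
  let P : ProjectiveResolution N := ProjectiveResolution.of _
  show IsZero (((tenF X).leftDerived (i + 1)).obj N)
  rw [Iso.isZero_iff (P.isoLeftDerivedObj (tenF X) (i + 1))]
  show IsZero (((((tenF X).mapHomologicalComplex _).obj P.complex)).homology (i + 1))
  rw [← HomologicalComplex.exactAt_iff_isZero_homology,
    HomologicalComplex.exactAt_iff' _ (i + 2) (i + 1) i (by simp) (by simp),
    ShortComplex.ShortExact.moduleCat_exact_iff_function_exact]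
  exact Module.Flat.lTensor_exact X
    ((ShortComplex.ShortExact.moduleCat_exact_iff_function_exact _).1 (P.exact_succ i))

/-- Vanishing in the long exact sequence: `Tor_{i+1}(X₂) = Tor_i(X₁) = 0` gives `Tor_{i+1}(X₃) = 0`. -/
theorem isZero_tor_third (S : ShortComplex (ModuleCat.{u} R)) (hS : S.ShortExact) (N : ModuleCat.{u} R) (i : ℕ)
    (h₂ : IsZero (((Tor (ModuleCat.{u} R) (i + 1)).obj S.X₂).obj N))
    (h₁ : IsZero (((Tor (ModuleCat.{u} R) i).obj S.X₁).obj N)) :
    IsZero (((Tor (ModuleCat.{u} R) (i + 1)).obj S.X₃).obj N) := by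
  let P : ProjectiveResolution N := ProjectiveResolution.of _
  let c := ComplexShape.down ℕ
  let C : ModuleCat.{u} R → ChainComplex (ModuleCat.{u} R) ℕ := fun X =>
    ((tenF X).mapHomologicalComplex c).obj P.complex
  let f : C S.X₁ ⟶ C S.X₂ :=
    (NatTrans.mapHomologicalComplex ((tensoringLeft (ModuleCat.{u} R)).map S.f) c).app P.complex
  let g : C S.X₂ ⟶ C S.X₃ :=
    (NatTrans.mapHomologicalComplex ((tensoringLeft (ModuleCat.{u} R)).map S.g) c).app P.complex
  have hfg : f ≫ g = 0 := by
    refine HomologicalComplex.hom_ext _ _ fun j => ModuleCat.hom_ext ?_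
    show S.g.hom.rTensor (P.complex.X j) ∘ₗ S.f.hom.rTensor (P.complex.X j) = 0
    rw [← LinearMap.rTensor_comp, ← ModuleCat.hom_comp, S.zero, ModuleCat.hom_zero, LinearMap.rTensor_zero]
  have hT : (ShortComplex.mk f g hfg).ShortExact := by
    refine HomologicalComplex.shortExact_of_degreewise_shortExact _ fun j => ?_
    haveI : Module.Projective R (P.complex.X j) := (IsProjective.iff_projective _).2 (P.projective j)
    have he : Function.Exact S.f.hom S.g.hom :=
      (ShortComplex.ShortExact.moduleCat_exact_iff_function_exact _).1 hS.exact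
    exact
      { exact := (ShortComplex.ShortExact.moduleCat_exact_iff_function_exact _).2
          (rTensor_exact (P.complex.X j) he ((ModuleCat.epi_iff_surjective _).1 hS.epi_g))
        mono_f := (ModuleCat.mono_iff_injective _).2 (Module.Flat.rTensor_preserves_injective_linearMap
          (M := P.complex.X j) S.f.hom ((ModuleCat.mono_iff_injective _).1 hS.mono_f))
        epi_g := (ModuleCat.epi_iff_surjective _).2
          (LinearMap.rTensor_surjective (P.complex.X j) ((ModuleCat.epi_iff_surjective _).1 hS.epi_g)) }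
  have key : ∀ (X : ModuleCat.{u} R) (j : ℕ),
      IsZero (((Tor (ModuleCat.{u} R) j).obj X).obj N) ↔ IsZero ((C X).homology j) := fun X j =>
    Iso.isZero_iff (P.isoLeftDerivedObj (tenF X) j)
  rw [key] at h₁ h₂ ⊢
  rw [ModuleCat.isZero_iff_subsingleton] at h₁ h₂ ⊢
  have hex₃ := hT.homology_exact₃ (i + 1) i rfl
  rw [ShortComplex.ShortExact.moduleCat_exact_iff_function_exact] at hex₃
  refine subsingleton_of_forall_eq 0 fun x => ?_
  obtain ⟨y, rfl⟩ := (hex₃ x).1 (@Subsingleton.elim _ h₁ _ _)
  rw [@Subsingleton.elim _ h₂ y 0, map_zero]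

open TensorProduct in
/-- The degree-one step: adjoining a regular element. -/
theorem injective_sup_span (N : Type u) [AddCommGroup N] [Module R N] (I : Ideal R) (x : R)
    (hI : Function.Injective (I.subtype.rTensor N))
    (hx : ∀ n : N, x • n ∈ (I • ⊤ : Submodule R N) → n ∈ (I • ⊤ : Submodule R N)) :
    Function.Injective ((I ⊔ Ideal.span {x}).subtype.rTensor N) := by
  rw [injective_iff_map_eq_zero]
  intro t ht
  let xe : (I ⊔ Ideal.span {x} : Ideal R) := ⟨x, Submodule.mem_sup_right (Ideal.mem_span_singleton_self x)⟩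
  let inc : I →ₗ[R] (I ⊔ Ideal.span {x} : Ideal R) := Submodule.inclusion le_sup_left
  have hrep : ∀ t : (I ⊔ Ideal.span {x} : Ideal R) ⊗[R] N, ∃ (s : I ⊗[R] N) (n : N),
      t = inc.rTensor N s + xe ⊗ₜ n := by
    intro t
    induction t with
    | zero => exact ⟨0, 0, by simp⟩
    | tmul v n =>
      obtain ⟨i, hi, j, hj, hij⟩ := Submodule.mem_sup.1 v.2
      obtain ⟨c, hc⟩ := Ideal.mem_span_singleton'.1 hj
      refine ⟨⟨i, hi⟩ ⊗ₜ n, c • n, ?_⟩
      rw [LinearMap.rTensor_tmul, TensorProduct.tmul_smul, TensorProduct.smul_tmul', ← TensorProduct.add_tmul]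
      congr 1
      exact Subtype.ext (by simp [inc, xe, hc, hij])
    | add a b ha hb =>
      obtain ⟨s, n, rfl⟩ := ha
      obtain ⟨s', n', rfl⟩ := hb
      exact ⟨s + s', n + n', by rw [map_add, TensorProduct.tmul_add]; abel⟩
  have hlid : ∀ s : I ⊗[R] N, TensorProduct.lid R N (I.subtype.rTensor N s) ∈ (I • ⊤ : Submodule R N) := fun s => by
    induction s with
    | zero => simp
    | tmul i n => simpa using Submodule.smul_mem_smul i.2 Submodule.mem_top
    | add a b ha hb => rw [map_add, map_add]; exact add_mem ha hb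
  obtain ⟨s, n, rfl⟩ := hrep t
  have h0 : TensorProduct.lid R N (I.subtype.rTensor N s) + x • n = 0 := by
    have h := congrArg (TensorProduct.lid R N) ht
    rw [map_add, map_add, map_zero, ← LinearMap.comp_apply, ← LinearMap.rTensor_comp] at h
    rw [show (I ⊔ Ideal.span {x}).subtype ∘ₗ inc = I.subtype from rfl] at h
    simpa [xe] using h
  have hn : n ∈ (I • ⊤ : Submodule R N) := hx n (by
    rw [eq_neg_of_add_eq_zero_right h0]
    exact neg_mem (hlid s))
  obtain ⟨s', hs'⟩ : ∃ s' : I ⊗[R] N, xe ⊗ₜ[R] n = inc.rTensor N s' := by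
    clear h0 ht
    induction hn using Submodule.smul_induction_on' with
    | smul a ha m _ =>
      refine ⟨(⟨a, ha⟩ : I) ⊗ₜ (x • m), ?_⟩
      rw [LinearMap.rTensor_tmul, TensorProduct.tmul_smul, TensorProduct.smul_tmul', TensorProduct.tmul_smul,
        TensorProduct.smul_tmul']
      congr 1
      exact Subtype.ext (by simp [inc, xe, mul_comm])
    | add a _ b _ ha hb =>
      obtain ⟨u, hu⟩ := ha
      obtain ⟨v, hv⟩ := hb
      exact ⟨u + v, by rw [TensorProduct.tmul_add, hu, hv, map_add]⟩
  rw [hs', ← map_add] at ht ⊢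
  rw [← LinearMap.comp_apply, ← LinearMap.rTensor_comp] at ht
  rw [show s + s' = 0 from hI (ht.trans (map_zero _).symm), map_zero]

open TensorProduct in
/-- The converse of the degree-one step, by Nakayama. -/
theorem injective_of_sup_span [IsNoetherianRing R] (N : Type u) [AddCommGroup N] [Module R N]
    [Module.Finite R N] (I : Ideal R) (x : R) (hxj : x ∈ (⊥ : Ideal R).jacobson)
    (hreg : ∀ a, x * a ∈ I → a ∈ I) (h : Function.Injective ((I ⊔ Ideal.span {x}).subtype.rTensor N)) :
    Function.Injective (I.subtype.rTensor N) ∧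
      ∀ n : N, x • n ∈ (I • ⊤ : Submodule R N) → n ∈ (I • ⊤ : Submodule R N) := by
  let xe : (I ⊔ Ideal.span {x} : Ideal R) := ⟨x, Submodule.mem_sup_right (Ideal.mem_span_singleton_self x)⟩
  let inc : I →ₗ[R] (I ⊔ Ideal.span {x} : Ideal R) := Submodule.inclusion le_sup_left
  let χ : (I × R) →ₗ[R] (I ⊔ Ideal.span {x} : Ideal R) := inc.coprod (LinearMap.toSpanSingleton R _ xe)
  have hχ : Function.Surjective χ := fun v => by
    obtain ⟨i, hi, j, hj, hij⟩ := Submodule.mem_sup.1 v.2
    obtain ⟨c, hc⟩ := Ideal.mem_span_singleton'.1 hj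
    exact ⟨(⟨i, hi⟩, c), Subtype.ext (by simp [χ, inc, xe, hc, hij])⟩
  let κ : I →ₗ[R] I × R := LinearMap.prod (-(x • LinearMap.id)) I.subtype
  have hex : Function.Exact κ χ := fun p => by
    obtain ⟨i, a⟩ := p
    constructor
    · intro h0
      have h1 : (i : R) + a * x = 0 := by simpa [χ, inc, xe] using congrArg Subtype.val h0
      have ha : a ∈ I := hreg a (by rw [mul_comm, eq_neg_of_add_eq_zero_right h1]; exact neg_mem i.2)
      refine ⟨⟨a, ha⟩, Prod.ext (Subtype.ext ?_) rfl⟩
      simp [κ]
      linear_combination -h1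
    · rintro ⟨c, hc⟩
      rw [← hc]
      exact Subtype.ext (by simp [χ, inc, xe, κ, mul_comm])
  have hexT := rTensor_exact N hex hχ
  have hfst : ∀ s, ((LinearMap.fst R I R).rTensor N) (κ.rTensor N s) = -(x • s) := fun s => by
    rw [← LinearMap.comp_apply, ← LinearMap.rTensor_comp, show LinearMap.fst R I R ∘ₗ κ = -(x • LinearMap.id) from rfl,
      LinearMap.rTensor_neg, LinearMap.rTensor_smul, LinearMap.rTensor_id]
    rfl
  have hsnd : ∀ s, ((LinearMap.snd R I R).rTensor N) (κ.rTensor N s) = I.subtype.rTensor N s := fun s => by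
    rw [← LinearMap.comp_apply, ← LinearMap.rTensor_comp]
    rfl
  constructor
  · haveI : Module.Finite R I := Module.Finite.iff_fg.2 (IsNoetherian.noetherian I)
    haveI : IsNoetherian R (I ⊗[R] N) := isNoetherian_of_isNoetherianRing_of_finite R _
    let K := LinearMap.ker (I.subtype.rTensor N)
    have hK : K ≤ Ideal.span {x} • K := by
      intro t ht
      have h0 : χ.rTensor N ((LinearMap.inl R I R).rTensor N t) = 0 := h (by
        rw [map_zero, ← LinearMap.comp_apply, ← LinearMap.comp_apply, ← LinearMap.rTensor_comp, ← LinearMap.rTensor_comp]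
        have : ((I ⊔ Ideal.span {x}).subtype ∘ₗ χ) ∘ₗ LinearMap.inl R I R = I.subtype := by
          ext i; simp [χ, inc]
        rw [this]
        exact ht)
      obtain ⟨s, hs⟩ := (hexT _).1 h0
      have h1 := congrArg ((LinearMap.snd R I R).rTensor N) hs
      rw [hsnd, ← LinearMap.comp_apply, ← LinearMap.rTensor_comp, LinearMap.snd_comp_inl, LinearMap.rTensor_zero] at h1
      have h2 := congrArg ((LinearMap.fst R I R).rTensor N) hs
      rw [hfst, ← LinearMap.comp_apply ((LinearMap.fst R I R).rTensor N), ← LinearMap.rTensor_comp,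
        LinearMap.fst_comp_inl, LinearMap.rTensor_id] at h2
      rw [show t = x • (-s) by rw [smul_neg]; exact h2.symm]
      exact Submodule.smul_mem_smul (Ideal.mem_span_singleton_self x) (neg_mem (LinearMap.mem_ker.2 h1))
    exact LinearMap.ker_eq_bot.1 (Submodule.eq_bot_of_le_smul_of_le_jacobson_bot _ _ (IsNoetherian.noetherian _) hK
      ((Ideal.span_singleton_le_iff_mem _).2 hxj))
  · intro n hn
    obtain ⟨u, hu⟩ : ∃ u : I ⊗[R] N, TensorProduct.lid R N (I.subtype.rTensor N u) = x • n := by
      have hle : (I • ⊤ : Submodule R N) ≤ LinearMap.range ((TensorProduct.lid R N).toLinearMap ∘ₗ I.subtype.rTensor N) :=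
        Submodule.smul_le.2 fun a ha m _ => ⟨(⟨a, ha⟩ : I) ⊗ₜ m, by simp⟩
      exact hle hn
    have h0 : χ.rTensor N ((LinearMap.inl R I R).rTensor N u - (LinearMap.inr R I R).rTensor N ((1 : R) ⊗ₜ n)) = 0 := by
      refine h ((TensorProduct.lid R N).injective ?_)
      rw [map_zero, map_zero, ← LinearMap.comp_apply ((I ⊔ Ideal.span {x}).subtype.rTensor N), ← LinearMap.rTensor_comp,
        map_sub, map_sub, ← LinearMap.comp_apply, ← LinearMap.rTensor_comp]
      have : ((I ⊔ Ideal.span {x}).subtype ∘ₗ χ) ∘ₗ LinearMap.inl R I R = I.subtype := by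
        ext i; simp [χ, inc]
      rw [this, hu]
      simp [χ, inc, xe]
    obtain ⟨s, hs⟩ := (hexT _).1 h0
    have h1 := congrArg ((LinearMap.snd R I R).rTensor N) hs
    rw [hsnd, map_sub, ← LinearMap.comp_apply, ← LinearMap.rTensor_comp, LinearMap.snd_comp_inl, LinearMap.rTensor_zero,
      LinearMap.zero_apply, zero_sub] at h1
    have h2 := congrArg (TensorProduct.lid R N) h1
    simp only [map_neg, LinearMap.rTensor_tmul, LinearMap.inr_apply, LinearMap.snd_apply, TensorProduct.lid_tmul, one_smul] at h2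
    rw [← neg_mem_iff, ← h2]
    clear hs h0 h1 h2
    induction s with
    | zero => simp
    | tmul i m => simpa using Submodule.smul_mem_smul i.2 Submodule.mem_top
    | add a b ha hb => rw [map_add, map_add]; exact add_mem ha hb

end Groth.Agent.TorBridge
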